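import Groth.Agent.AbVar.K504.AltAb
import Groth.Agent.DeRham.K852.Basic
import Mathlib.LinearAlgebra.ExteriorPower.Basis
import Mathlib.LinearAlgebra.Matrix.Determinant.Basic

/-!
# Exterior forms as alternating maps on a frame

`R` a ring, `M` an `R`-module, `D : Fin g → (M →ₗ[R] R)` linear forms. `P D q : ⋀^q M →+ Alt^q(ℤ^g, R)`:
* `P_ιMulti`: on decomposable elements it is the determinant of the values of the forms;
* `P_bijective`: it is bijective if the forms give `M ≅ R^g`;
* `d_P`: it carries the de Rham differential to the Koszul differential.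
-/

set_option autoImplicit false

universe u

open exteriorPower Module

namespace K853.CeAlg

section ext

variable {G : Type*} [AddCommGroup G] {g : ℕ}

/-- the basis vectors of a `q`-subset -/
def eV (g q : ℕ) (s : Set.powersetCard (Fin g) q) : Fin q → (Fin g → ℤ) :=
  fun j => Pi.single (Set.powersetCard.ofFinEmbEquiv.symm s j) 1

theorem ιMulti_eV (q : ℕ) (s : Set.powersetCard (Fin g) q) :
    ιMulti ℤ q (eV g q s) = (Pi.basisFun ℤ (Fin g)).exteriorPower q s := by
  rw [basis_apply, ιMulti_family]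
  congr 1
  funext j
  simp [eV]

/-- alternating maps on `ℤ^g` are determined by their values on the basis vectors -/
theorem alt_ext {q : ℕ} {α β : (Fin g → ℤ) [⋀^Fin q]→ₗ[ℤ] G} (h : ∀ s, α (eV g q s) = β (eV g q s)) : α = β := by
  apply (alternatingMapLinearEquiv (R := ℤ)).injective
  refine ((Pi.basisFun ℤ (Fin g)).exteriorPower q).ext fun s => ?_
  rw [← ιMulti_eV, alternatingMapLinearEquiv_apply_ιMulti, alternatingMapLinearEquiv_apply_ιMulti]
  exact h s

end ext

variable {R : Type u} {M : Type u} [CommRing R] [AddCommGroup M] [Module R M] {g : ℕ}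

/-- the linear forms `Σ v_j D_j` -/
def Lv (D : Fin g → (M →ₗ[R] R)) : (Fin g → ℤ) →ₗ[ℤ] Module.Dual R M where
  toFun v := ∑ j, v j • D j
  map_add' v w := by simp [add_smul, Finset.sum_add_distrib]
  map_smul' a v := by
    simp only [Pi.smul_apply, smul_eq_mul, mul_smul, Finset.smul_sum, eq_intCast, Int.cast_eq]

theorem Lv_apply (D : Fin g → (M →ₗ[R] R)) (v : Fin g → ℤ) (m : M) : Lv D v m = ∑ j, v j • D j m := by
  simp [Lv]

theorem Lv_single (D : Fin g → (M →ₗ[R] R)) (j : Fin g) : Lv D (Pi.single j 1) = D j := by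
  ext m
  rw [Lv_apply, Finset.sum_eq_single j]
  · rw [Pi.single_eq_same, one_smul]
  · intro i _ hi
    rw [Pi.single_eq_of_ne hi, zero_smul]
  · intro h
    exact absurd (Finset.mem_univ _) h

theorem comp_update {q : ℕ} (D : Fin g → (M →ₗ[R] R)) [DecidableEq (Fin q)] (v : Fin q → (Fin g → ℤ)) (i : Fin q)
    (a : Fin g → ℤ) : (fun b => Lv D (Function.update v i a b)) = Function.update (fun b => Lv D (v b)) i (Lv D a) :=
  Function.comp_update (Lv D) v i a

/-- the alternating map of a form -/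
noncomputable def P (D : Fin g → (M →ₗ[R] R)) (q : ℕ) : ↥(⋀[R]^q M) →+ ((Fin g → ℤ) [⋀^Fin q]→ₗ[ℤ] R) where
  toFun x :=
    { toFun := fun v => alternatingMapToDual R M q (fun b => Lv D (v b)) x
      map_update_add' := fun v i a b => by
        rw [comp_update, comp_update, comp_update, map_add, AlternatingMap.map_update_add]
        rfl
      map_update_smul' := fun v i c a => by
        rw [comp_update, comp_update, map_smul, ← Int.cast_smul_eq_zsmul R, AlternatingMap.map_update_smul,
          ← Int.cast_smul_eq_zsmul R]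
        rfl
      map_eq_zero_of_eq' := fun v i j h hij => by
        rw [(alternatingMapToDual R M q).map_eq_zero_of_eq (fun b => Lv D (v b)) (congrArg (Lv D) h) hij]
        rfl }
  map_zero' := by
    ext v
    exact map_zero (alternatingMapToDual R M q (fun b => Lv D (v b)))
  map_add' x y := by
    ext v
    exact map_add (alternatingMapToDual R M q (fun b => Lv D (v b))) x y

theorem P_apply (D : Fin g → (M →ₗ[R] R)) (q : ℕ) (x : ↥(⋀[R]^q M)) (v : Fin q → (Fin g → ℤ)) :
    P D q x v = alternatingMapToDual R M q (fun b => Lv D (v b)) x := rfl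

theorem P_ιMulti (D : Fin g → (M →ₗ[R] R)) (q : ℕ) (m : Fin q → M) (v : Fin q → (Fin g → ℤ)) :
    P D q (ιMulti R q m) v = Matrix.det (Matrix.of fun i j => Lv D (v j) (m i)) := by
  rw [P_apply, alternatingMapToDual_apply_ιMulti]

theorem P_smul (D : Fin g → (M →ₗ[R] R)) (q : ℕ) (r : R) (x : ↥(⋀[R]^q M)) (v : Fin q → (Fin g → ℤ)) :
    P D q (r • x) v = r * P D q x v := by
  rw [P_apply, P_apply, map_smul, smul_eq_mul]

section basis

variable (D : Fin g → (M →ₗ[R] R)) (hD : Function.Bijective fun (m : M) (j : Fin g) => D j m)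

/-- the dual basis -/
noncomputable def bas : Basis (Fin g) R M :=
  Basis.ofEquivFun (LinearEquiv.ofBijective (LinearMap.pi D) hD)

theorem bas_coord (j : Fin g) : (bas D hD).coord j = D j := by
  ext m
  rfl

theorem P_eV (q : ℕ) (x : ↥(⋀[R]^q M)) (s : Set.powersetCard (Fin g) q) :
    P D q x (eV g q s) = ((bas D hD).exteriorPower q).repr x s := by
  rw [basis_repr_apply, P_apply, ιMultiDual, ιMulti_family, pairingDual, alternatingMapLinearEquiv_apply_ιMulti]
  congr 2
  funext b
  rw [eV, Lv_single]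
  exact (bas_coord D hD _).symm

include hD in
theorem P_bijective (q : ℕ) : Function.Bijective (P D q) := by
  constructor
  · intro x y h
    refine ((bas D hD).exteriorPower q).ext_elem fun s => ?_
    rw [← P_eV, ← P_eV, h]
  · intro α
    refine ⟨((bas D hD).exteriorPower q).equivFun.symm fun s => α (eV g q s), alt_ext fun s => ?_⟩
    rw [P_eV D hD]
    exact congrFun (LinearEquiv.apply_symm_apply ((bas D hD).exteriorPower q).equivFun _) s

end basis

section diff

variable (D : Fin g → (M →ₗ[R] R)) (δ : Derivation ℤ R M) (τ : (Fin g → ℤ) →ₗ[ℤ] (R →ₗ[ℤ] R))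
  (hτ : ∀ v b, τ v b = Lv D v (δ b)) (hc : ∀ v w x, τ v (τ w x) = τ w (τ v x))

open K504.AltAb

include hτ in
/-- Leibniz rule -/
theorem d_smul (q : ℕ) (b₀ : R) (x : ↥(⋀[R]^q M)) (v : Fin (q + 1) → (Fin g → ℤ)) :
    d τ q (P D q (b₀ • x)) v =
      (∑ i : Fin (q + 1), (-1) ^ (i : ℕ) * (Lv D (v i) (δ b₀) * P D q x (i.removeNth v))) + b₀ * d τ q (P D q x) v := by
  rw [d_apply, d_apply, Finset.mul_sum, ← Finset.sum_add_distrib]
  refine Finset.sum_congr rfl fun i _ => ?_
  rw [P_smul, hτ, hτ, Derivation.leibniz, map_add, map_smul, map_smul, smul_add, smul_eq_mul, smul_eq_mul, add_comm]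
  simp only [zsmul_eq_mul, Int.cast_pow, Int.cast_neg, Int.cast_one]
  ring

theorem det_cons (q : ℕ) (m₀ : M) (m : Fin q → M) (v : Fin (q + 1) → (Fin g → ℤ)) :
    P D (q + 1) (ιMulti R (q + 1) (Fin.cons m₀ m)) v =
      ∑ i : Fin (q + 1), (-1) ^ (i : ℕ) * (Lv D (v i) m₀ * P D q (ιMulti R q m) (i.removeNth v)) := by
  rw [P_ιMulti, Matrix.det_succ_row_zero]
  refine Finset.sum_congr rfl fun i _ => ?_
  rw [P_ιMulti, mul_assoc]
  rfl

include hτ hc in
/-- the alternating map of `δb₁ ∧ … ∧ δb_q` is closed -/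
theorem d_closed (q : ℕ) (b : Fin q → R) : d τ q (P D q (ιMulti R q (fun i => δ (b i)))) = 0 := by
  induction q with
  | zero =>
    ext v
    rw [d_apply]
    refine Finset.sum_eq_zero fun i _ => ?_
    have h1 : P D 0 (ιMulti R 0 (fun i => δ (b i))) (i.removeNth v) = 1 := by
      rw [P_ιMulti, Matrix.det_isEmpty]
    rw [h1, hτ, Derivation.map_one_eq_zero, map_zero, smul_zero]
  | succ q ih =>
    have h1 : P D (q + 1) (ιMulti R (q + 1) (fun i => δ (b i))) =
        d τ q (P D q (b 0 • ιMulti R q (fun i => δ (b i.succ)))) := by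
      ext v
      rw [d_smul D δ τ hτ, ih (fun i => b i.succ)]
      have h2 : (fun i => δ (b i)) = (Fin.cons (δ (b 0)) (fun i : Fin q => δ (b i.succ)) : Fin (q + 1) → M) := by
        funext i
        refine Fin.cases ?_ (fun i => ?_) i
        · rfl
        · rfl
      rw [h2, det_cons]
      simp
    rw [h1]
    exact d_d τ hc q _

include hτ hc in
theorem d_gen (q : ℕ) (b₀ : R) (b : Fin q → R) :
    d τ q (P D q (b₀ • ιMulti R q (fun i => δ (b i)))) =
      P D (q + 1) (ιMulti R (q + 1) (Fin.cons (δ b₀) (fun i => δ (b i)))) := by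
  ext v
  rw [d_smul D δ τ hτ, d_closed D δ τ hτ hc, det_cons]
  simp

include hτ hc in
/-- `P` carries the de Rham differential to the Koszul differential. -/
theorem d_P (hgen : Submodule.span R (Set.range δ) = ⊤) (q : ℕ) (dd : ↥(⋀[R]^q M) →+ ↥(⋀[R]^(q + 1) M))
    (hdd : ∀ (b₀ : R) (b : Fin q → R), dd (b₀ • ιMulti R q (fun i => δ (b i))) =
      ιMulti R (q + 1) (Fin.cons (δ b₀) (fun i => δ (b i)))) (x : ↥(⋀[R]^q M)) :
    P D (q + 1) (dd x) = d τ q (P D q x) := by
  refine K852.DR.gen_induction δ hgen q (P := fun x => P D (q + 1) (dd x) = d τ q (P D q x)) ?_ ?_ ?_ ?_ x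
  · intro b₀ b
    exact (congrArg (P D (q + 1)) (hdd b₀ b)).trans (d_gen D δ τ hτ hc q b₀ b).symm
  · rw [dd.map_zero, (P D (q + 1)).map_zero, (P D q).map_zero, (d τ q).map_zero]
  · intro x y hx hy
    rw [dd.map_add, (P D (q + 1)).map_add, (P D q).map_add, (d τ q).map_add, hx, hy]
  · intro x hx
    rw [dd.map_neg, (P D (q + 1)).map_neg, (P D q).map_neg, (d τ q).map_neg, hx]

end diff

section nat

variable {R' : Type u} {M' : Type u} [CommRing R'] [AddCommGroup M'] [Module R' M'] (ρ : R →+* R') (μ : M →+ M')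
  (D : Fin g → (M →ₗ[R] R)) (D' : Fin g → (M' →ₗ[R'] R')) (hμ : ∀ j m, D' j (μ m) = ρ (D j m))

include hμ in
theorem Lv_nat (v : Fin g → ℤ) (m : M) : Lv D' v (μ m) = ρ (Lv D v m) := by
  rw [Lv_apply, Lv_apply, map_sum]
  refine Finset.sum_congr rfl fun j _ => ?_
  rw [map_zsmul, hμ]

include hμ in
/-- compatibility with restriction -/
theorem P_nat (q : ℕ) (Θ : ↥(⋀[R]^q M) →+ ↥(⋀[R']^q M')) (hΘ : ∀ m : Fin q → M, Θ (ιMulti R q m) = ιMulti R' q (μ ∘ m))
    (hs : ∀ (r : R) x, Θ (r • x) = ρ r • Θ x) (x : ↥(⋀[R]^q M)) (v : Fin q → (Fin g → ℤ)) :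
    P D' q (Θ x) v = ρ (P D q x v) := by
  have hx : x ∈ Submodule.span R (Set.range (ιMulti R q (M := M))) := by
    rw [ιMulti_span]
    trivial
  induction hx using Submodule.span_induction with
  | mem x hx =>
    obtain ⟨m, rfl⟩ := hx
    rw [hΘ, P_ιMulti, P_ιMulti, RingHom.map_det]
    congr 1
    ext i j
    exact Lv_nat ρ μ D D' hμ (v j) (m i)
  | zero =>
    rw [Θ.map_zero, (P D' q).map_zero, (P D q).map_zero]
    exact ρ.map_zero.symm
  | add x y _ _ hx hy =>
    rw [Θ.map_add, (P D' q).map_add, (P D q).map_add, AlternatingMap.add_apply, AlternatingMap.add_apply, ρ.map_add,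
      hx, hy]
  | smul r x _ hx => rw [hs, P_smul, P_smul, ρ.map_mul, hx]

end nat

end K853.CeAlg
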