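import Groth.Agent.AbVar.K853.CeAlg
import Groth.Agent.AbVar.K504.Inv
import Groth.Agent.DeRhamSh.K205.Leib
import Groth.Agent.Fga.PicTanSheaf
import Groth.Prelude.Def_KoszulSh

/-!
# The de Rham complex of a scheme with a global frame of commuting derivations is a Koszul complex
-/

set_option autoImplicit false

universe u

open CategoryTheory CategoryTheory.Limits AlgebraicGeometry Opposite TopologicalSpace exteriorPower

namespace K853.CeIso

open Groth.Agent.Fga.PicTanSheaf K853.CeAlg K504.GDMap K504.AltSh K504.Inv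

section glue

variable {X : Scheme.{u}}

/-- a morphism of abelian sheaves from compatible maps on affine opens -/
theorem exists_glue {F G : Sh X} (φ : ∀ W : X.affineOpens, sec F W.1 →+ sec G W.1)
    (h : ∀ (V W : X.affineOpens) (h : V.1 ≤ W.1) (x : sec F W.1), φ V (rs F h x) = rs G h (φ W x)) :
    ∃ ψ : F ⟶ G, ∀ (W : X.affineOpens) (x : sec F W.1), Groth.Agent.Fga.PicTanSheaf.ap ψ W.1 x = φ W x := by
  let B : X.affineOpens → X.Opens := Subtype.val
  have hB : Opens.IsBasis (Set.range B) := by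
    rw [Subtype.range_coe]
    exact X.isBasis_affineOpens
  let F' : TopCat.Sheaf AddCommGrpCat.{u} X := G
  let α : (inducedFunctor B).op ⋙ F.obj ⟶ (inducedFunctor B).op ⋙ F'.1 :=
    { app := fun i => AddCommGrpCat.ofHom (φ i.unop)
      naturality := fun i j f => by
        ext x
        exact h j.unop i.unop (leOfHom f.unop.hom) x }
  let ψ₀ : F.obj ⟶ F'.1 := TopCat.Sheaf.restrictHomEquivHom F.obj F' hB α
  refine ⟨⟨ψ₀⟩, fun W x => ?_⟩
  have := TopCat.Sheaf.extend_hom_app (F := F.obj) (F' := F') hB α W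
  exact congr($this x)

end glue

variable {A : Type u} [CommRing A] {X : Scheme.{u}} {f : X ⟶ Spec (CommRingCat.of A)} [QuasiSeparated f] {g : ℕ}
  (F : Frame f g) (D : DeRhamSh.OmegaCx f)

/-- the linear forms over an open -/
noncomputable abbrev frm (W : X.Opens) (j : Fin g) : Γ(Omega.sheaf f, W) →ₗ[Γ(X, W)] Γ(X, W) :=
  KoszSh.secForm (F.D j) W

theorem frm_bijective (W : X.Opens) :
    Function.Bijective fun (m : Γ(Omega.sheaf f, W)) (j : Fin g) => frm F W j m := F.bij W

/-- sections over an affine open as alternating maps -/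
noncomputable def locP (q : ℕ) (W : X.affineOpens) :
    sec (D.K.X q) W.1 →+ ((Fin g → ℤ) [⋀^Fin q]→ₗ[ℤ] Γ(X, W.1)) :=
  (P (frm F W.1) q).comp ((D.loc q W).toLinearMap.toAddMonoidHom.comp (Groth.Agent.Fga.PicTanSheaf.ap (D.iso q).hom W.1))

theorem locP_apply (q : ℕ) (W : X.affineOpens) (x : sec (D.K.X q) W.1) :
    locP F D q W x = P (frm F W.1) q (D.loc q W (Groth.Agent.Fga.PicTanSheaf.ap (D.iso q).hom W.1 x)) := rfl

theorem locP_bijective (q : ℕ) (W : X.affineOpens) : Function.Bijective (locP F D q W) := by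
  have h1 : Function.Bijective (Groth.Agent.Fga.PicTanSheaf.ap (D.iso q).hom W.1) := by
    refine Function.bijective_iff_has_inverse.mpr ⟨Groth.Agent.Fga.PicTanSheaf.ap (D.iso q).inv W.1, fun x => ?_, fun x => ?_⟩
    · rw [← Groth.Agent.Fga.PicTanSheaf.ap_comp, Iso.hom_inv_id]
      rfl
    · rw [← Groth.Agent.Fga.PicTanSheaf.ap_comp, Iso.inv_hom_id]
      rfl
  exact (P_bijective (frm F W.1) (frm_bijective F W.1) q).comp ((D.loc q W).bijective.comp h1)

/-- restriction of differential forms -/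
theorem frm_res {V W : X.Opens} (h : V ≤ W) (j : Fin g) (m : Γ(Omega.sheaf f, W)) :
    frm F V j ((Omega.sheaf f).presheaf.map (homOfLE h).op m) = X.presheaf.map (homOfLE h).op (frm F W j m) := by
  have h1 := congr($((F.D j).mapPresheaf.naturality (homOfLE h).op) m)
  exact h1

theorem locP_res (q : ℕ) (V W : X.affineOpens) (h : V.1 ≤ W.1) (x : sec (D.K.X q) W.1) :
    locP F D q V (rs (D.K.X q) h x) = (X.presheaf.map (homOfLE h).op).hom.toAddMonoidHom.toIntLinearMap.compAlternatingMap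
      (locP F D q W x) := by
  let res : Γ(D.term q, W.1) →+ Γ(D.term q, V.1) := ((D.term q).presheaf.map (homOfLE h).op).hom
  let Θ : ↥(⋀[Γ(X, W.1)]^q Γ(Omega.sheaf f, W.1)) →+ ↥(⋀[Γ(X, V.1)]^q Γ(Omega.sheaf f, V.1)) :=
    (D.loc q V).toLinearMap.toAddMonoidHom.comp (res.comp (D.loc q W).symm.toLinearMap.toAddMonoidHom)
  have hΘ : ∀ m : Fin q → Γ(Omega.sheaf f, W.1), Θ (ιMulti Γ(X, W.1) q m) =
      ιMulti Γ(X, V.1) q ((fun x => (Omega.sheaf f).presheaf.map (homOfLE h).op x) ∘ m) := fun m => by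
    have h1 := congrArg (D.loc q V) (D.loc_res q W V h m)
    rw [LinearEquiv.apply_symm_apply] at h1
    exact h1
  have hs : ∀ (r : Γ(X, W.1)) x, Θ (r • x) = X.presheaf.map (homOfLE h).op r • Θ x := fun r x => by
    exact (congrArg (fun y => D.loc q V (res y)) (map_smul (D.loc q W).symm r x)).trans
      ((congrArg (D.loc q V) (Scheme.Modules.map_smul (D.term q) (homOfLE h) r ((D.loc q W).symm x))).trans
        (map_smul (D.loc q V) _ _))
  ext v
  have h2 := P_nat (X.presheaf.map (homOfLE h).op).hom ((Omega.sheaf f).presheaf.map (homOfLE h).op).hom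
    (frm F W.1) (frm F V.1) (fun j m => frm_res F h j m) q Θ hΘ hs
    (D.loc q W (Groth.Agent.Fga.PicTanSheaf.ap (D.iso q).hom W.1 x)) v
  have h3 : D.loc q V (Groth.Agent.Fga.PicTanSheaf.ap (D.iso q).hom V.1 (rs (D.K.X q) h x)) =
      Θ (D.loc q W (Groth.Agent.Fga.PicTanSheaf.ap (D.iso q).hom W.1 x)) :=
    (congrArg (D.loc q V) (ap_rs (D.iso q).hom h x)).trans
      (congrArg (fun y => D.loc q V (res y)) ((D.loc q W).symm_apply_apply _).symm)
  exact (congrArg (fun z => P (frm F V.1) q z v) h3).trans h2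

/-- the operators on sections -/
theorem opL_lin (W : X.Opens) (v : Fin g → ℤ) (b : Γ(X, W)) :
    opL (lin F.del) (op W) v b = Lv (frm F W) v ((OmegaSh.dOmega f).app W b) := by
  have h1 : ∀ (s : Finset (Fin g)), K504.AltSh.ap (∑ j ∈ s, v j • F.del j) (op W) b =
      ∑ j ∈ s, v j • frm F W j ((OmegaSh.dOmega f).app W b) := by
    classical
    intro s
    induction s using Finset.induction_on with
    | empty => rfl
    | insert a s ha ih =>
      rw [Finset.sum_insert ha, Finset.sum_insert ha, ← ih]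
      rfl
  exact (h1 Finset.univ).trans (Lv_apply (frm F W) v _).symm

theorem locP_d (hc : ∀ i j, F.del i ≫ F.del j = F.del j ≫ F.del i) (q : ℕ) (W : X.affineOpens)
    (x : sec (D.K.X q) W.1) :
    locP F D (q + 1) W (Groth.Agent.Fga.PicTanSheaf.ap (D.K.d q (q + 1)) W.1 x) =
      K504.AltAb.d (opL (lin F.del) (op W.1)) q (locP F D q W x) := by
  let dd : ↥(⋀[Γ(X, W.1)]^q Γ(Omega.sheaf f, W.1)) →+ ↥(⋀[Γ(X, W.1)]^(q + 1) Γ(Omega.sheaf f, W.1)) :=
    (D.loc (q + 1) W).toLinearMap.toAddMonoidHom.comp ((K853.CxAff.dSec D W.1 q).comp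
      (D.loc q W).symm.toLinearMap.toAddMonoidHom)
  have hdd : ∀ (b₀ : Γ(X, W.1)) (b : Fin q → Γ(X, W.1)), dd (b₀ • ιMulti _ q (fun i => K205.Leib.derZ f W.1 (b i))) =
      ιMulti _ (q + 1) (Fin.cons (K205.Leib.derZ f W.1 b₀) (fun i => K205.Leib.derZ f W.1 (b i))) := fun b₀ b => by
    have h1 := congrArg (D.loc (q + 1) W) (K853.CxAff.dSec_rule D W q b₀ b)
    rw [LinearEquiv.apply_symm_apply] at h1
    exact h1
  have h2 := d_P (frm F W.1) (K205.Leib.derZ f W.1) (opL (lin F.del) (op W.1)) (fun v b => opL_lin F W.1 v b)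
    (fun v w x => congrArg (fun φ => K504.AltSh.ap φ (op W.1) x) (comm_lin hc w v)) (K205.Leib.span_derZ f W) q dd hdd
    (D.loc q W (Groth.Agent.Fga.PicTanSheaf.ap (D.iso q).hom W.1 x))
  have h3 : (D.iso q).inv.hom.app (op W.1) (Groth.Agent.Fga.PicTanSheaf.ap (D.iso q).hom W.1 x) = x :=
    congr($((D.iso q).hom_inv_id).hom.app (op W.1) x)
  have h4 : Groth.Agent.Fga.PicTanSheaf.ap (D.iso (q + 1)).hom W.1
      (Groth.Agent.Fga.PicTanSheaf.ap (D.K.d q (q + 1)) W.1 x) =
      K853.CxAff.dSec D W.1 q (Groth.Agent.Fga.PicTanSheaf.ap (D.iso q).hom W.1 x) :=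
    congrArg (fun y => (D.iso (q + 1)).hom.hom.app (op W.1) ((D.K.d q (q + 1)).hom.app (op W.1) y)) h3.symm
  have h5 : D.loc (q + 1) W (Groth.Agent.Fga.PicTanSheaf.ap (D.iso (q + 1)).hom W.1
      (Groth.Agent.Fga.PicTanSheaf.ap (D.K.d q (q + 1)) W.1 x)) =
      dd (D.loc q W (Groth.Agent.Fga.PicTanSheaf.ap (D.iso q).hom W.1 x)) :=
    (congrArg (D.loc (q + 1) W) h4).trans
      (congrArg (fun y => D.loc (q + 1) W (K853.CxAff.dSec D W.1 q y)) ((D.loc q W).symm_apply_apply _).symm)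
  exact (congrArg (P (frm F W.1) (q + 1)) h5).trans h2

/-- the comparison in degree `q` -/
theorem exists_psi (q : ℕ) : ∃ ψ : D.K.X q ⟶ (altSh (Fin g → ℤ) q).obj (Oab X), ∀ (W : X.affineOpens)
    (x : sec (D.K.X q) W.1), Groth.Agent.Fga.PicTanSheaf.ap ψ W.1 x = locP F D q W x :=
  exists_glue (F := D.K.X q) (G := (altSh (Fin g → ℤ) q).obj (Oab X)) (locP F D q) fun V W h x => locP_res F D q V W h x

/-- the comparison in degree `q` -/
noncomputable def psi (q : ℕ) : D.K.X q ⟶ (altSh (Fin g → ℤ) q).obj (Oab X) := (exists_psi F D q).choose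

theorem ap_psi (q : ℕ) (W : X.affineOpens) (x : sec (D.K.X q) W.1) :
    Groth.Agent.Fga.PicTanSheaf.ap (psi F D q) W.1 x = locP F D q W x := (exists_psi F D q).choose_spec W x

instance isIso_psi (q : ℕ) : IsIso (psi F D q) := by
  refine isIso_of_affine (F := D.K.X q) (G := (altSh (Fin g → ℤ) q).obj (Oab X)) (psi F D q) fun U hU => ?_
  have h1 : (Groth.Agent.Fga.PicTanSheaf.ap (psi F D q) U : _ → _) = locP F D q ⟨U, hU⟩ :=
    funext fun x => ap_psi F D q ⟨U, hU⟩ x
  rw [h1]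
  exact locP_bijective F D q ⟨U, hU⟩

theorem psi_d (hc : ∀ i j, F.del i ≫ F.del j = F.del j ≫ F.del i) (q : ℕ) :
    psi F D q ≫ dSh (lin F.del) q = D.K.d q (q + 1) ≫ psi F D (q + 1) := by
  refine hom_ext_affine (F := D.K.X q) (G := (altSh (Fin g → ℤ) (q + 1)).obj (Oab X)) fun U hU x => ?_
  have h1 : Groth.Agent.Fga.PicTanSheaf.ap (psi F D q) U x = locP F D q ⟨U, hU⟩ x := ap_psi F D q ⟨U, hU⟩ x
  have h2 : Groth.Agent.Fga.PicTanSheaf.ap (psi F D (q + 1)) U (Groth.Agent.Fga.PicTanSheaf.ap (D.K.d q (q + 1)) U x) =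
    locP F D (q + 1) ⟨U, hU⟩ (Groth.Agent.Fga.PicTanSheaf.ap (D.K.d q (q + 1)) U x) := ap_psi F D (q + 1) ⟨U, hU⟩ _
  have h3 := locP_d F D hc q ⟨U, hU⟩ x
  exact (congrArg (K504.AltAb.d (opL (lin F.del) (op U)) q) h1).trans (h3.symm.trans h2.symm)

/-- the comparison in degree `q` as an isomorphism -/
noncomputable def psiIso (q : ℕ) : D.K.X q ≅ (altSh (Fin g → ℤ) q).obj (Oab X) :=
  @asIso _ _ _ _ (psi F D q) (isIso_psi F D q)

/-- the isomorphism of complexes -/
noncomputable def iso (hc : ∀ i j, F.del i ≫ F.del j = F.del j ≫ F.del i) : D.K ≅ Kos F hc :=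
  HomologicalComplex.Hom.isoOfComponents (fun q => psiIso F D q) fun i j hij => by
    obtain rfl : i + 1 = j := hij
    have h1 : (Kos F hc).d i (i + 1) = dSh (lin F.del) i := CE_d (lin F.del) (comm_lin hc) i
    rw [h1]
    exact psi_d F D hc i

theorem psi_smul (q : ℕ) (a : Coh.Γtop X) :
    (D.iso q).hom ≫ Coh.smulAb (D.term q) a ≫ (D.iso q).inv ≫ psi F D q =
      psi F D q ≫ (altSh (Fin g → ℤ) q).map (Coh.smulAb (Coh.structureModule X) a) := by
  refine hom_ext_affine (F := D.K.X q) (G := (altSh (Fin g → ℤ) q).obj (Oab X)) fun U hU x => ?_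
  let W : X.affineOpens := ⟨U, hU⟩
  let r : Γ(X, U) := X.presheaf.map (homOfLE (le_top (a := U))).op a
  have h1 : Groth.Agent.Fga.PicTanSheaf.ap (psi F D q) U x = locP F D q W x := ap_psi F D q W x
  let y : Γ(D.term q, U) := Groth.Agent.Fga.PicTanSheaf.ap (D.iso q).hom U x
  let z : sec (D.K.X q) U := Groth.Agent.Fga.PicTanSheaf.ap (D.iso q).inv U (r • y)
  have h2 : Groth.Agent.Fga.PicTanSheaf.ap (psi F D q) U z = locP F D q W z := ap_psi F D q W z
  have h3 : Groth.Agent.Fga.PicTanSheaf.ap (D.iso q).hom U z = r • y := K853.CxAff.iso_inv_hom D U q (r • y)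
  refine h2.trans ?_
  have h4 : locP F D q W z = P (frm F U) q (r • D.loc q W y) :=
    congrArg (P (frm F U) q) ((congrArg (D.loc q W) h3).trans (map_smul (D.loc q W) r y))
  refine h4.trans ?_
  refine Eq.trans ?_ (congrArg (fun α => (K504.AltSh.ap (Coh.smulAb (Coh.structureModule X) a)
    (op U)).toIntLinearMap.compAlternatingMap α) h1.symm)
  ext v
  exact P_smul (frm F U) q r (D.loc q W y) v

/-- **(T5)** The de Rham complex of a scheme over an affine base with a global frame of commuting derivations is the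
Koszul complex of the derivations. -/
theorem t5 : T5 F := fun hc D => ⟨iso F D hc, fun q a => by
  have h1 : (iso F D hc).hom.f q = psi F D q := rfl
  rw [h1]
  exact psi_smul F D q a⟩

end K853.CeIso
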