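import Groth.Agent.AbVar.K504.AnyField
import Groth.Agent.DelIll.K905.HTSch
import Groth.Agent.PerfA.CohSerre
import Groth.Agent.S0002
import Groth.Agent.DeRhamSh.K853.CxAff
import Groth.Agent.DeRhamSh.K853.Terms
import Mathlib.Data.Nat.Choose.Vandermonde

/-!
# Degeneration and the dimension of de Rham cohomology for abelian varieties

For an abelian variety `X` of dimension `g` over any field, `dim H^n_dR(X) ≤ (2g choose n)` with equality if and only
if the Hodge to de Rham spectral sequence degenerates in total degree `n` (`count`).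
-/

set_option autoImplicit false

universe w u

open CategoryTheory CategoryTheory.Limits AlgebraicGeometry TopologicalSpace Opposite E1Deg KLinDR MonoidalCategory
  CartesianMonoidalCategory

namespace K853.HdRCount

theorem sum_choose (g n : ℕ) :
    ∑ a ∈ Finset.range (n + 1), g.choose a * g.choose (n - a) = (2 * g).choose n := by
  rw [two_mul, Nat.add_choose_eq, Finset.Nat.sum_antidiagonal_eq_sum_range_succ_mk]

variable {k : Type u} [Field k] {X : Scheme.{u}} [X.Over (Spec (CommRingCat.of k))]
  [GrpObj (Over.mk (X ↘ Spec (CommRingCat.of k)))] [IsProper (X ↘ Spec (CommRingCat.of k))]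
  [GeometricallyIntegral (X ↘ Spec (CommRingCat.of k))] {g : ℕ} (hg : topologicalKrullDim ↥X = g)
  (D : DeRhamSh.OmegaCx (X ↘ Spec (CommRingCat.of k)))

include hg in
theorem finrank_term (a s : ℕ) : Module.finrank k (Coh.HH X (D.term a) s) = g.choose a * g.choose s :=
  K504.AnyField.finrank_omega k X g hg (D.isExtPow a) s

include hg in
theorem isZero_term (a : ℕ) (ha : g < a) : IsZero (D.term a) := by
  have h1 := K504.AnyField.smooth_str k X
  exact K853.Terms.isZero_term (X ↘ Spec (CommRingCat.of k)) g hg.le D a ha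

include k in
theorem isCoh_term (a : ℕ) : Coh.IsCoh (D.term a) := by
  have h1 := K504.AnyField.smooth_str k X
  have h2 : QuasiCompact (X ↘ Spec (CommRingCat.of k)) := inferInstance
  have hcpt : CompactSpace X := QuasiCompact.compactSpace_of_compactSpace (X ↘ Spec (CommRingCat.of k))
  exact Groth.Agent.PerfA.CohSerre.isCoh_of_isFinLocFree
    (K853.Terms.isFinLocFree_term (K853.Terms.isFinLocFree_omega (X ↘ Spec (CommRingCat.of k))) D a)

include k in
theorem exists_dim : ∃ g : ℕ, topologicalKrullDim ↥X = g := by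
  have h1 := K504.AnyField.smooth_str k X
  have h2 := K504.AnyField.isIntegral k X
  obtain ⟨d, hd⟩ := K504.Hodge.exists_relDim k X (X ↘ Spec (CommRingCat.of k))
  exact ⟨d, K504.Hodge.topologicalKrullDim_eq (X ↘ Spec (CommRingCat.of k)) d⟩

variable (h : KLinDR.TermwiseLinear (Coh.toGlobal (X ↘ Spec (CommRingCat.of k))) D.K D.term D.iso)
    [HasDerivedCategory.{w} (Sheaf (Opens.grothendieckTopology X) AddCommGrpCat.{u})]

include hg in
/-- **Dimension count** for abelian varieties. -/
theorem count (n : ℕ) :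
    Module.Finite k (KLinDR.HdR (Coh.toGlobal (X ↘ Spec (CommRingCat.of k))) D h n) ∧
    Module.finrank k (KLinDR.HdR (Coh.toGlobal (X ↘ Spec (CommRingCat.of k))) D h n) ≤ (2 * g).choose n ∧
    (Module.finrank k (KLinDR.HdR (Coh.toGlobal (X ↘ Spec (CommRingCat.of k))) D h n) = (2 * g).choose n ↔
      ∀ i, DegeneratesAt (CohCx.freeSheaf (Opens.grothendieckTopology X) (⊤ : X.Opens)) D.KZ n i) := by
  have h1 := K905.HTSch.count h (fun i m => Groth.Agent.S0002.result k X (D.term i) (isCoh_term D i) m)
    (g + 1) (fun i hi => isZero_term hg D i (by omega)) n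
  have h2 : ∑ i ∈ Finset.range (n + 1), Module.finrank k (Coh.HH X (D.term i) (n - i)) = (2 * g).choose n :=
    (Finset.sum_congr rfl fun i _ => finrank_term hg D i (n - i)).trans (sum_choose g n)
  rw [h2] at h1
  exact h1

include hg in
/-- Degeneration from the dimension of `H^n_dR` for all `n`. -/
theorem hyperDegenerates (hdim : ∀ n : ℕ, (2 * g).choose n ≤
      Module.finrank k (KLinDR.HdR (Coh.toGlobal (X ↘ Spec (CommRingCat.of k))) D h n)) :
    E1Deg.HyperDegenerates D.KZ (⊤ : X.Opens) := by
  intro n i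
  by_cases hn : n < 0
  · exact K905.HTAbs.degeneratesAt_of_neg _ _ (K905.HTSch.isZero_extend_neg D.K) n i hn
  · obtain ⟨n, rfl⟩ := Int.eq_ofNat_of_zero_le (not_lt.1 hn)
    exact (count hg D h n).2.2.1 (le_antisymm (count hg D h n).2.1 (hdim n)) i

include hg in
/-- `dim H^n_dR(X) = (2g choose n)` from degeneration. -/
theorem finrank_of_hyperDegenerates (hdeg : E1Deg.HyperDegenerates D.KZ (⊤ : X.Opens)) (n : ℕ) :
    Module.Finite k (KLinDR.HdR (Coh.toGlobal (X ↘ Spec (CommRingCat.of k))) D h n) ∧
      Module.finrank k (KLinDR.HdR (Coh.toGlobal (X ↘ Spec (CommRingCat.of k))) D h n) = Nat.choose (2 * g) n :=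
  ⟨(count hg D h n).1, (count hg D h n).2.2.2 fun i => hdeg n i⟩

end K853.HdRCount
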